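/-
Definitions for S2929 (overgroups of a Sylow 3-subgroup of Sym(n) with quasisimple F*).
`altOn Δ` : the even permutations of `α` fixing every point outside `Δ` (the alternating group on `Δ`
inside `Perm α`).
-/
import Mathlib

set_option autoImplicit false

namespace Cfsg.Agent.Lib.Helper06.SylAlt

open Equiv Equiv.Perm

variable {α : Type*} [Fintype α] [DecidableEq α]

/-- The even permutations of `α` fixing every point outside `Δ`. -/
def altOn (Δ : Set α) : Subgroup (Perm α) where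
  carrier := {σ | σ ∈ alternatingGroup α ∧ ∀ x, x ∉ Δ → σ x = x}
  one_mem' := ⟨one_mem _, fun _ _ => rfl⟩
  mul_mem' := by
    rintro a b ⟨ha, ha'⟩ ⟨hb, hb'⟩
    exact ⟨mul_mem ha hb, fun x hx => by rw [Perm.mul_apply, hb' x hx, ha' x hx]⟩
  inv_mem' := by
    rintro a ⟨ha, ha'⟩
    exact ⟨inv_mem ha, fun x hx => by rw [Perm.inv_eq_iff_eq, ha' x hx]⟩

theorem mem_altOn {Δ : Set α} {σ : Perm α} :
    σ ∈ altOn Δ ↔ σ ∈ alternatingGroup α ∧ ∀ x, x ∉ Δ → σ x = x := Iff.rfl

end Cfsg.Agent.Lib.Helper06.SylAlt
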