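/-
S2929 leaf P4 (backup by the architect): a perfect permutation group acts trivially on every invariant set
with at most 4 points.
-/
import Mathlib
import Cfsg.Agent.Lib.Helper62.Small120

set_option autoImplicit false

namespace Cfsg.Agent.Lib.Helper06.SylAlt

open Equiv Equiv.Perm

section P4
variable {α : Type*} [Fintype α] [DecidableEq α]

theorem fix_of_perfect_of_ncard_le_four (K : Subgroup (Perm α)) (hK : ⁅K, K⁆ = K) (Δ : Set α)
    (hΔ : ∀ k ∈ K, ∀ x ∈ Δ, k x ∈ Δ) (hcard : Δ.ncard ≤ 4) : ∀ k ∈ K, ∀ x ∈ Δ, k x = x := by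
  classical
  -- invariance in both directions
  have hiff : ∀ k ∈ K, ∀ x, k x ∈ Δ ↔ x ∈ Δ := by
    intro k hk x
    constructor
    · intro h
      have := hΔ k⁻¹ (K.inv_mem hk) _ h
      simpa using this
    · exact hΔ k hk x
  -- restriction hom
  let φ : ↥K →* Perm ↥Δ :=
    { toFun := fun k => (k : Perm α).subtypePerm (hiff k.1 k.2)
      map_one' := by
        ext x
        simp
      map_mul' := by
        intro a b
        ext x
        rfl }
  -- the range is a finite group of order < 60
  have hfin : Finite ↥Δ := Set.toFinite Δ |>.to_subtype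
  have hcardΔ : Nat.card ↥Δ ≤ 4 := by
    rw [Nat.card_coe_set_eq]; exact hcard
  have hcardP : Nat.card (Perm ↥Δ) ≤ 24 := by
    have : Fintype ↥Δ := Fintype.ofFinite _
    rw [Nat.card_eq_fintype_card, Fintype.card_perm]
    have h4 : Fintype.card ↥Δ ≤ 4 := by
      rw [← Nat.card_eq_fintype_card]; exact hcardΔ
    calc (Fintype.card ↥Δ).factorial ≤ (4 : ℕ).factorial := Nat.factorial_le h4
      _ = 24 := by decide
  have hcardR : Nat.card ↥φ.range < 60 := by
    have h1 : Nat.card ↥φ.range ≤ Nat.card (Perm ↥Δ) := Subgroup.card_le_card_group _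
    omega
  have : Finite ↥φ.range := inferInstance
  have hsol : Group.IsSolvable ↥φ.range :=
    Cfsg.Agent.Lib.Helper62.Small120.solvable_of_card_lt_sixty _ hcardR ↥φ.range rfl
  -- K is perfect as a group
  have hKtop : commutator ↥K = ⊤ := by
    have h1 : (commutator ↥K).map K.subtype = K := by
      rw [commutator_def, Subgroup.map_commutator, ← MonoidHom.range_eq_map, Subgroup.range_subtype]
      exact hK
    apply Subgroup.map_injective K.subtype_injective
    rw [h1, ← MonoidHom.range_eq_map, Subgroup.range_subtype]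
  -- the range is perfect
  have hRtop : commutator ↥φ.range = ⊤ := by
    have hsurj : Function.Surjective φ.rangeRestrict := φ.rangeRestrict_surjective
    have h2 : (commutator ↥K).map φ.rangeRestrict = commutator ↥φ.range := by
      rw [commutator_def, Subgroup.map_commutator, commutator_def]
      rw [← MonoidHom.range_eq_map, MonoidHom.range_eq_top.2 hsurj]
    rw [← h2, hKtop, ← MonoidHom.range_eq_map, MonoidHom.range_eq_top.2 hsurj]
  -- hence trivial
  have htriv : Subsingleton ↥φ.range := by
    by_contra hns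
    rw [not_subsingleton_iff_nontrivial] at hns
    have := Group.IsSolvable.commutator_lt_top_of_nontrivial (G := ↥φ.range)
    rw [hRtop] at this
    exact lt_irrefl _ this
  intro k hk x hx
  have h1 : (⟨φ ⟨k, hk⟩, ⟨_, rfl⟩⟩ : ↥φ.range) = 1 := Subsingleton.elim _ _
  have h2 : φ ⟨k, hk⟩ = 1 := by
    have := congrArg Subtype.val h1
    simpa using this
  have h3 := congrArg (fun σ : Perm ↥Δ => ((σ ⟨x, hx⟩ : ↥Δ) : α)) h2
  simpa [φ] using h3

end P4

end Cfsg.Agent.Lib.Helper06.SylAlt
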