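/-
S2929 glue: H ≤ Sym(n), n ≥ 5, F*(H) quasisimple, H ⊇ a Sylow 3-subgroup of Sym(n)
  ⟹ F*(H) ≅ Alt(m), n-2 ≤ m ≤ n.
Architecture by helper6; see notes/S2929_keystones.lean.txt.
-/
import Mathlib
import Cfsg.Prelude.Def_Local
import Cfsg.Agent.Lib.Helper06.SylAlt.Defs
import Cfsg.Agent.Lib.Helper06.SylAlt.P4
import Cfsg.Agent.Lib.Helper12.SylAltP5b
import Cfsg.Agent.Lib.Helper22.SylAltP1a
import Cfsg.Agent.Lib.Helper29.SylAltB0
import Cfsg.Agent.Lib.Helper41.SylAltP3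
import Cfsg.Agent.Lib.Helper54.SylAltG1
import Cfsg.Agent.Lib.Helper60.SylAltP1
import Cfsg.Agent.Lib.Helper64.SylAltP5a
import Cfsg.Agent.Lib.Helper86.SylAltP2
import Cfsg.Agent.Lib.Helper30.Components
import Cfsg.Agent.Lib.Helper43.ThreeCycle

set_option autoImplicit false

namespace Cfsg.Agent.Lib.Helper06.SylAlt

open Equiv Equiv.Perm

section aux
variable {α : Type*} [Fintype α] [DecidableEq α]

theorem conj_mem_altOn {Δ : Set α} (g : Perm α) (hg : ∀ x, g x ∈ Δ ↔ x ∈ Δ) {σ : Perm α}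
    (hσ : σ ∈ altOn Δ) : g * σ * g⁻¹ ∈ altOn Δ := by
  refine ⟨(alternatingGroup α).normal_of_characteristic.conj_mem σ hσ.1 g, ?_⟩
  intro x hx
  have h1 : g⁻¹ x ∉ Δ := by
    intro h
    apply hx
    have := (hg (g⁻¹ x)).2 h
    simpa using this
  rw [Perm.mul_apply, Perm.mul_apply, hσ.2 _ h1]
  simp

theorem altOn_apply_mem {Δ : Set α} {σ : Perm α} (hσ : σ ∈ altOn Δ) {x : α} (hx : x ∈ Δ) :
    σ x ∈ Δ := by
  by_contra h
  have h1 := hσ.2 _ h
  have h2 : σ x = x := σ.injective h1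
  apply h
  rw [h2]
  exact hx

theorem commute_altOn {Δ : Set α} {σ t : Perm α} (hσ : σ ∈ altOn Δ) (ht : ∀ y ∈ Δ, t y = y) :
    σ * t = t * σ := by
  ext x
  rw [Perm.mul_apply, Perm.mul_apply]
  by_cases hx : x ∈ Δ
  · rw [ht x hx, ht _ (altOn_apply_mem hσ hx)]
  · have h1 : t x ∉ Δ := by
      intro h
      have h2 := ht _ h
      have h3 : t x = x := t.injective h2
      apply hx
      rw [← h3]
      exact h
    rw [hσ.2 _ h1, hσ.2 _ hx]

end aux

section grp
variable {G : Type*} [Group G]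

theorem conj_mem_closure (S : Set G) (h : G) (hS : ∀ s ∈ S, h * s * h⁻¹ ∈ Subgroup.closure S) :
    ∀ x ∈ Subgroup.closure S, h * x * h⁻¹ ∈ Subgroup.closure S := by
  intro x hx
  induction hx using Subgroup.closure_induction with
  | mem s hs => exact hS s hs
  | one => simp
  | mul a b _ _ iha ihb =>
    have : h * (a * b) * h⁻¹ = (h * a * h⁻¹) * (h * b * h⁻¹) := by group
    rw [this]; exact mul_mem iha ihb
  | inv a _ iha =>
    have : h * a⁻¹ * h⁻¹ = (h * a * h⁻¹)⁻¹ := by group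
    rw [this]; exact inv_mem iha

theorem le_normalizer_closure (H : Subgroup G) (S : Set G)
    (hS : ∀ h ∈ H, ∀ s ∈ S, h * s * h⁻¹ ∈ S) :
    H ≤ Subgroup.normalizer ((Subgroup.closure S : Subgroup G) : Set G) := by
  intro h hh
  rw [Subgroup.mem_normalizer_iff]
  intro x
  constructor
  · intro hx
    exact conj_mem_closure S h (fun s hs => Subgroup.subset_closure (hS h hh s hs)) x hx
  · intro hx
    have := conj_mem_closure S h⁻¹
      (fun s hs => Subgroup.subset_closure (hS h⁻¹ (inv_mem hh) s hs)) _ hx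
    have e : h⁻¹ * (h * x * h⁻¹) * h⁻¹⁻¹ = x := by group
    rwa [e] at this

end grp

/-- **Main theorem for S2929.** -/
theorem main (n : ℕ) (hn : 5 ≤ n) (H : Subgroup (Perm (Fin n)))
    (hF : Cfsg.IsQuasisimple ↥(Cfsg.generalizedFittingSubgroup ↥H))
    (hS : ∃ P : Sylow 3 (Perm (Fin n)), (P : Subgroup (Perm (Fin n))) ≤ H) :
    ∃ m : ℕ, (m = n - 2 ∨ m = n - 1 ∨ m = n) ∧
      Nonempty (↥(Cfsg.generalizedFittingSubgroup ↥H) ≃* ↥(alternatingGroup (Fin m))) := by
  classical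
  obtain ⟨P, hP⟩ := hS
  obtain ⟨K, hKH, hHK, hKq, ⟨e⟩, hCK, hcomp⟩ := Cfsg.Agent.Lib.Helper29.SylAlt.exists_fstar_internal H hF
  obtain ⟨U, hUcard, hU⟩ := Cfsg.Agent.Lib.Helper86.SylAlt.sylow_three_cover n P
  obtain ⟨hperf, hKne, -⟩ := Cfsg.Agent.Lib.Helper30.qs_subgroup hKq
  -- the 3-cycles of H and the subgroup they generate
  set T : Set (Perm (Fin n)) := {t | t ∈ H ∧ t.IsThreeCycle} with hT
  set N : Subgroup (Perm (Fin n)) := Subgroup.closure T with hN
  have hNH : N ≤ H := (Subgroup.closure_le H).2 (fun t ht => ht.1)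
  have hHN : H ≤ Subgroup.normalizer (N : Set (Perm (Fin n))) := by
    apply le_normalizer_closure
    intro h hh s hs
    refine ⟨mul_mem (mul_mem hh hs.1) (inv_mem hh), ?_⟩
    have := hs.2
    unfold IsThreeCycle at this ⊢
    rw [cycleType_conj]; exact this
  have hNgen : N = Subgroup.closure {t : Perm (Fin n) | t ∈ N ∧ t.IsThreeCycle} := by
    apply le_antisymm
    · exact Subgroup.closure_mono (fun t ht => ⟨Subgroup.subset_closure ht, ht.2⟩)
    · exact (Subgroup.closure_le N).2 (fun t ht => ht.1)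
  have hUT : ∀ x ∈ U, ∃ t ∈ T, x ∈ t.support := by
    intro x hx
    obtain ⟨t, htP, ht3, hxt⟩ := hU x hx
    exact ⟨t, ⟨hP htP, ht3⟩, hxt⟩
  rcases Cfsg.Agent.Lib.Helper54.SylAlt.le_or_commute_of_quasisimple H K N hKH hHK hKq hNH hHN with hKN | hcomm
  swap
  · -- K centralizes all 3-cycles of H: then K is abelian, impossible
    exfalso
    have hab : ∀ g ∈ K, ∀ h ∈ K, g * h = h * g := by
      intro g hg h hh
      apply Cfsg.Agent.Lib.Helper41.SylAlt.commute_of_centralize_cover T (fun t ht => ht.2) U hUT (by simpa using hUcard) g h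
      · intro t ht; exact (hcomm t (Subgroup.subset_closure ht) g hg).symm
      · intro t ht; exact (hcomm t (Subgroup.subset_closure ht) h hh).symm
    apply hKne
    rw [← hperf, Subgroup.commutator_eq_bot_iff_le_centralizer]
    intro g hg
    rw [Subgroup.mem_centralizer_iff]
    intro h hh
    exact hab h hh g hg
  -- K ≤ N
  have hex : ∃ k ∈ K, k ≠ 1 := by
    by_contra hcon
    push Not at hcon
    apply hKne
    rw [Subgroup.eq_bot_iff_forall]
    exact hcon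
  obtain ⟨k, hk, hk1⟩ := hex
  obtain ⟨a, ha⟩ : ∃ a, k a ≠ a := by
    by_contra hcon
    push Not at hcon
    exact hk1 (Perm.ext hcon)
  set Δ : Set (Fin n) := MulAction.orbit ↥N a with hΔ
  have hNΔ : ∀ g ∈ N, ∀ x, g x ∈ Δ ↔ x ∈ Δ := by
    intro g hg x
    constructor
    · rintro ⟨m, hm⟩
      have hm' : m • a = g x := hm
      refine ⟨(⟨g, hg⟩ : ↥N)⁻¹ * m, ?_⟩
      show ((⟨g, hg⟩ : ↥N)⁻¹ * m) • a = x
      rw [mul_smul, hm', Subgroup.smul_def]
      simp
    · rintro ⟨m, hm⟩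
      have hm' : m • a = x := hm
      refine ⟨(⟨g, hg⟩ : ↥N) * m, ?_⟩
      show ((⟨g, hg⟩ : ↥N) * m) • a = g x
      rw [mul_smul, hm']
      rfl
  by_cases hsmall : Δ.ncard ≤ 4
  · exfalso
    exact ha (fix_of_perfect_of_ncard_le_four K hperf Δ
      (fun k' hk' x hx => (hNΔ k' (hKN hk') x).2 hx) hsmall k hk a (MulAction.mem_orbit_self a))
  push Not at hsmall
  set Δf : Finset (Fin n) := (Set.toFinite Δ).toFinset with hΔfdef
  have hΔf : (Δf : Set (Fin n)) = Δ := Set.Finite.coe_toFinset _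
  have hcardΔ : Δf.card = Δ.ncard := (Set.ncard_eq_toFinset_card Δ (Set.toFinite Δ)).symm
  have hAq : Cfsg.IsQuasisimple ↥(altOn Δ) := by
    rw [← hΔf]; exact Cfsg.Agent.Lib.Helper12.SylAlt.isQuasisimple_altOn Δf (by omega)
  have hAN : altOn Δ ≤ N := Cfsg.Agent.Lib.Helper60.SylAlt.altOn_orbit_le_of N hNgen a
      (fun S hS htr =>
        Cfsg.Agent.Lib.Helper22.SylAlt.alternatingGroup_le_of_transitive_of_closure_threeCycle S hS htr)
  have hNA : N ≤ Subgroup.normalizer ((altOn Δ : Subgroup (Perm (Fin n))) : Set (Perm (Fin n))) := by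
    intro g hg
    rw [Subgroup.mem_normalizer_iff]
    intro σ
    constructor
    · intro hσ; exact conj_mem_altOn g (hNΔ g hg) hσ
    · intro hσ
      have := conj_mem_altOn g⁻¹ (hNΔ g⁻¹ (inv_mem hg)) hσ
      have e' : g⁻¹ * (g * σ * g⁻¹) * g⁻¹⁻¹ = σ := by group
      rwa [e'] at this
  have hAK : altOn Δ = K := hcomp (altOn Δ) N hAN hNH hHN hNA hAq
  -- every point of U lies in Δ
  have hUΔ : ∀ x ∈ U, x ∈ Δ := by
    intro x hx
    obtain ⟨t, ⟨htH, ht3⟩, hxt⟩ := hUT x hx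
    have htN : t ∈ N := Subgroup.subset_closure ⟨htH, ht3⟩
    by_contra hxΔ
    have hfix : ∀ y ∈ Δ, t y = y := by
      by_contra hcon
      push Not at hcon
      obtain ⟨y, hyΔ, hty⟩ := hcon
      have hc := Cfsg.Agent.Lib.Helper43.Cyc3.of_isThreeCycle ht3 hty
      rcases Cfsg.Agent.Lib.Helper43.Cyc3.eq_of_apply_ne hc (Perm.mem_support.1 hxt) with h | h | h
      · exact hxΔ (h ▸ hyΔ)
      · exact hxΔ (h ▸ (hNΔ t htN y).2 hyΔ)
      · exact hxΔ (h ▸ (hNΔ t htN (t y)).2 ((hNΔ t htN y).2 hyΔ))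
    have htK : t ∈ K := by
      apply hCK t htH
      intro k' hk'
      rw [← hAK] at hk'
      exact (commute_altOn hk' hfix).symm
    rw [← hAK] at htK
    exact (Perm.mem_support.1 hxt) (htK.2 x hxΔ)
  have hsub : U ⊆ Δf := by
    intro x hx
    have := hUΔ x hx
    rw [← hΔf] at this
    exact this
  have h1 : U.card ≤ Δf.card := Finset.card_le_card hsub
  have h2 : Δf.card ≤ n := by
    have := Finset.card_le_univ Δf
    simpa using this
  obtain ⟨e2⟩ := Cfsg.Agent.Lib.Helper64.SylAlt.altOn_mulEquiv Δf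
  rw [hΔf] at e2
  refine ⟨Δf.card, by omega, ⟨e.trans ((MulEquiv.subgroupCongr hAK.symm).trans e2)⟩⟩

end Cfsg.Agent.Lib.Helper06.SylAlt
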